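import Cfsg.Agent.Lib.SylowCyclicSuzuki.SDNone
import Cfsg.Agent.Lib.OddUse.MetacyclicTwo
import Cfsg.Agent.Lib.RankOneSylow.Cover
import Cfsg.Agent.Lib.Linear.GenTools
import Cfsg.Agent.Lib.Transfer.AbelianHall

/-!
# Perfect groups with almost cyclic Sylow subgroups

* `TwoCyclic` : the Sylow 2-subgroups have a cyclic subgroup of index at most two;
* `perfect_structure` : such a perfect group with cyclic Sylow subgroups of odd order is `PSL(2, p)` or `SL(2, p)`.
-/

set_option autoImplicit false
set_option linter.unusedSectionVars false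

namespace Cfsg.Agent.SylowCyclicSuzuki

open Subgroup
open Cfsg.Agent.PSL2 (PSL2 PGL2 SL2)
open scoped commutatorElement

universe u

variable {G : Type u} [Group G] [Finite G]

/-- The Sylow 2-subgroups have a cyclic subgroup of index at most two. -/
def TwoCyclic (G : Type*) [Group G] : Prop :=
  ∀ S : Sylow 2 G, ∃ C : Subgroup (S : Subgroup G), IsCyclic C ∧ C.index ∣ 2

theorem normal_of_index_dvd_two {H : Type*} [Group H] {C : Subgroup H} (h : C.index ∣ 2) : C.Normal := by
  rcases (Nat.dvd_prime Nat.prime_two).1 h with e | e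
  · rw [index_eq_one.1 e]; infer_instance
  · exact normal_of_index_eq_two e

theorem TwoCyclic.of_injective (hG : TwoCyclic G) {H : Type*} [Group H] (hH : IsPGroup 2 H) (f : H →* G)
    (hf : Function.Injective f) : ∃ A : Subgroup H, IsCyclic A ∧ A.index ∣ 2 := by
  obtain ⟨S, hS⟩ := (IsPGroup.map (hH.of_equiv Subgroup.topEquiv.symm) f).exists_le_sylow
  obtain ⟨C, hC, hCi⟩ := hG S
  haveI := normal_of_index_dvd_two hCi
  let g : H →* (S : Subgroup G) := f.codRestrict _ fun x => hS (mem_map_of_mem f (mem_top x))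
  have hg : Function.Injective g := fun x y e => hf (congrArg Subtype.val e :)
  refine ⟨C.comap g, ?_, ?_⟩
  · exact isCyclic_of_injective ((g.comp (C.comap g).subtype).codRestrict C fun x => x.2)
      fun x y e => Subtype.ext (hg (congrArg Subtype.val e :))
  · rw [index_comap]
    exact (relIndex_dvd_index_of_normal C _).trans hCi

theorem TwoCyclic.subgroup (hG : TwoCyclic G) (K : Subgroup G) : TwoCyclic K := fun S =>
  hG.of_injective S.2 (K.subtype.comp (S : Subgroup K).subtype)
    fun x y e => Subtype.ext (K.subtype_injective e)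

/-- No two independent commuting elements of order `p`. -/
theorem OddCyclic.no_commuting (hG : OddCyclic G) {p : ℕ} (hp : p.Prime) (hp2 : p ≠ 2) {x y : G}
    (hx : orderOf x = p) (hy : orderOf y = p) (hc : Commute x y) : y ∈ zpowers x := by
  haveI := Fact.mk hp
  let H : Subgroup G := closure {x, y}
  have hHc : ∀ z ∈ H, z ^ p = 1 ∧ Commute x z ∧ Commute y z := by
    intro z hz
    induction hz using Subgroup.closure_induction with
    | mem z hz =>
      rcases hz with rfl | rfl
      · exact ⟨by rw [← hx, pow_orderOf_eq_one], Commute.refl _, hc.symm⟩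
      · exact ⟨by rw [← hy, pow_orderOf_eq_one], hc, Commute.refl _⟩
    | one => exact ⟨one_pow _, Commute.one_right _, Commute.one_right _⟩
    | mul z w hz hw ihz ihw =>
      refine ⟨?_, ihz.2.1.mul_right ihw.2.1, ihz.2.2.mul_right ihw.2.2⟩
      have hzw : Commute z w := by
        have : w ∈ centralizer {z} := by
          refine (closure_le _).2 ?_ hw
          rintro _ (rfl | rfl)
          · exact mem_centralizer_singleton_iff.2 ihz.2.1.eq
          · exact mem_centralizer_singleton_iff.2 ihz.2.2.eq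
        exact (mem_centralizer_singleton_iff.1 this).symm
      rw [hzw.mul_pow, ihz.1, ihw.1, one_mul]
    | inv z _ ih => exact ⟨by rw [inv_pow, ih.1, inv_one], ih.2.1.inv_right, ih.2.2.inv_right⟩
  have hH : IsPGroup p H := fun z => ⟨1, Subtype.ext (by rw [pow_one]; exact (hHc z z.2).1)⟩
  haveI := hG.of_pgroup hp hp2 hH
  exact PairsCyclic.mem_zpowers_of_cyclic (H := H) inferInstance (subset_closure (Or.inl rfl))
    (subset_closure (Or.inr rfl)) (by rw [hx, ← hy, pow_orderOf_eq_one])

theorem isZGroup_of_odd (hG : OddCyclic G) {O : Subgroup G} (hO : Odd (Nat.card O)) : IsZGroup O := by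
  refine ⟨fun p hp Q => ?_⟩
  by_cases hp2 : p = 2
  · subst hp2
    haveI := Fact.mk Nat.prime_two
    have h1 : Nat.card Q = 1 := by
      rw [Q.card_eq_multiplicity, Nat.factorization_eq_zero_of_not_dvd hO.not_two_dvd_nat, pow_zero]
    haveI : Subsingleton Q := (Nat.card_eq_one_iff_unique.1 h1).1
    infer_instance
  · exact hG.subgroup O p hp hp2 Q

/-- A perfect group with cyclic Sylow subgroups of odd order has trivial odd core. -/
theorem core_eq_bot (hperf : commutator G = ⊤) (hG : OddCyclic G) (O : Subgroup G) [O.Normal]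
    (hO : Odd (Nat.card O)) : O = ⊥ := by
  haveI := isZGroup_of_odd hG hO
  -- cyclic normal subgroups and sections are central
  have hcyc : ∀ (A : Type u) [Group A] [IsCyclic A] (f : G →* MulAut A), ∀ g, f g = 1 := by
    intro A _ _ f g
    have hle : commutator G ≤ f.ker := by
      rw [_root_.commutator_def, commutator_le]
      intro x _ y _
      rw [MonoidHom.mem_ker, map_commutatorElement, commutatorElement_eq_one_iff_mul_comm]
      exact (IsCyclic.mulAutMulEquiv A).injective (by rw [map_mul, map_mul, mul_comm])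
    rw [hperf] at hle
    exact hle (mem_top g)
  haveI : IsCyclic (commutator O) := IsZGroup.isCyclic_commutator O
  haveI : IsCyclic (O ⧸ commutator O) := inferInstanceAs (IsCyclic (Abelianization O))
  set c : G →* MulAut O := MulAut.conjNormal
  let f₁ : G →* MulAut (commutator O) :=
    { toFun := fun g => ((c g).subgroupMap (commutator O)).trans
        (MulEquiv.subgroupCongr (Subgroup.characteristic_iff_map_eq.1 inferInstance (c g)))
      map_one' := MulEquiv.ext fun x => Subtype.ext (show c 1 x.1 = x.1 by rw [map_one]; rfl)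
      map_mul' := fun g g' => MulEquiv.ext fun x => Subtype.ext
        (show c (g * g') x.1 = c g (c g' x.1) by rw [map_mul]; rfl) }
  let f₂ : G →* MulAut (O ⧸ commutator O) :=
    { toFun := fun g => QuotientGroup.congr _ _ (c g) (Subgroup.characteristic_iff_map_eq.1 inferInstance (c g))
      map_one' := MulEquiv.ext fun x => by
        obtain ⟨y, rfl⟩ := QuotientGroup.mk_surjective x
        simp
      map_mul' := fun g g' => MulEquiv.ext fun x => by
        obtain ⟨y, rfl⟩ := QuotientGroup.mk_surjective x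
        show ((c (g * g') y : O) : O ⧸ commutator O) = ((c g (c g' y) : O) : O ⧸ commutator O)
        rw [map_mul]; rfl }
  set O' := (commutator O).map O.subtype
  have h1 : ⁅O', (⊤ : Subgroup G)⁆ = ⊥ := by
    rw [eq_bot_iff, commutator_le]
    rintro _ ⟨d, hd, rfl⟩ g -
    have e := congrArg (fun φ : MulAut (commutator O) => (((φ ⟨d, hd⟩ : commutator O) : O) : G)) (hcyc _ f₁ g)
    change g * (d : G) * g⁻¹ = (d : G) at e
    rw [mem_bot, commutatorElement_eq_one_iff_mul_comm]
    exact (mul_inv_eq_iff_eq_mul.1 e).symm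
  have h2 : ⁅(⊤ : Subgroup G), O⁆ ≤ O' := by
    rw [commutator_le]
    intro g _ x hx
    have e : (c g ⟨x, hx⟩ : O ⧸ commutator O) = ((⟨x, hx⟩ : O) : O ⧸ commutator O) :=
      DFunLike.congr_fun (hcyc _ f₂ g) ((⟨x, hx⟩ : O) : O ⧸ commutator O)
    have e2 := QuotientGroup.eq.1 e.symm
    refine ⟨_, (inferInstance : (commutator O).Normal).conj_mem _ e2 (⟨x, hx⟩ : O), ?_⟩
    simp [c, commutatorElement_def, mul_assoc]
  have h3 : ⁅⁅(⊤ : Subgroup G), (⊤ : Subgroup G)⁆, O⁆ = ⊥ := by
    refine commutator_commutator_eq_bot_of_rotate ?_ ?_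
    · exact le_bot_iff.1 ((commutator_mono h2 le_rfl).trans h1.le)
    · refine le_bot_iff.1 ((commutator_mono ?_ le_rfl).trans h1.le)
      rw [commutator_comm]
      exact h2
  rw [← _root_.commutator_def, hperf] at h3
  have hcen : O ≤ center G := fun x hx => mem_center_iff.2 fun g => by
    have := commutator_mem_commutator (mem_top g) hx
    rw [h3, mem_bot, commutatorElement_eq_one_iff_mul_comm] at this
    exact this
  by_contra hne
  obtain ⟨p, hp, hpd⟩ := Nat.exists_prime_and_dvd (fun e => hne ((Subgroup.eq_bot_iff_card O).2 e))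
  haveI := Fact.mk hp
  obtain ⟨z, hz⟩ := exists_prime_orderOf_dvd_card' p hpd
  have hp2 : p ≠ 2 := fun e => hO.not_two_dvd_nat (e ▸ hpd)
  obtain ⟨Q, hQ⟩ := (IsPGroup.of_card (p := p) (n := 1) (G := zpowers (z : G))
    (by rw [Nat.card_zpowers, Subgroup.orderOf_coe, hz, pow_one])).exists_le_sylow
  haveI := hG p hp hp2 Q
  have h4 := Transfer.inf_commutator_inf_center_eq_bot (Q : Subgroup G) inferInstance Q.card_coprime_index
  have h5 : (z : G) ∈ (Q : Subgroup G) ⊓ commutator G ⊓ center G :=
    ⟨⟨hQ (mem_zpowers _), hperf ▸ mem_top _⟩, hcen z.2⟩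
  rw [h4, mem_bot] at h5
  rw [← Subgroup.orderOf_coe, h5, orderOf_one] at hz
  exact hp.ne_one hz.symm

theorem not_oddCyclic_alt_seven : ¬ OddCyclic (alternatingGroup (Fin 7)) := fun h => by
  let x : alternatingGroup (Fin 7) := ⟨c[0, 1, 2], Equiv.Perm.mem_alternatingGroup.2 (by decide)⟩
  let y : alternatingGroup (Fin 7) := ⟨c[3, 4, 5], Equiv.Perm.mem_alternatingGroup.2 (by decide)⟩
  have hx : orderOf x = 3 := orderOf_eq_prime (hp := ⟨Nat.prime_three⟩) (by decide) (by decide)
  have hy : orderOf y = 3 := orderOf_eq_prime (hp := ⟨Nat.prime_three⟩) (by decide) (by decide)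
  have hm := h.no_commuting Nat.prime_three (by norm_num) hx hy (show x * y = y * x by decide)
  rw [mem_zpowers_iff_mem_range_orderOf, hx] at hm
  revert hm
  decide

/-- The order two central kernel does not matter. -/
theorem OddCyclic.of_two_kernel {H K : Type*} [Group H] [Finite H] [Group K] [Finite K] (hK : OddCyclic K)
    (f : H →* K) (hker : IsPGroup 2 f.ker) : OddCyclic H := by
  intro p hp hp2 Q
  haveI := Fact.mk hp
  haveI := hK.of_pgroup hp hp2 (Q.2.map f)
  refine isCyclic_of_injective (f.subgroupMap Q) ((injective_iff_map_eq_one _).2 fun x hx => ?_)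
  have h1 : (x : H) ∈ f.ker := congrArg Subtype.val hx
  obtain ⟨i, hi⟩ := IsPGroup.iff_orderOf.1 Q.2 x
  obtain ⟨j, hj⟩ := IsPGroup.iff_orderOf.1 hker ⟨_, h1⟩
  rw [Subgroup.orderOf_mk, Subgroup.orderOf_coe, hi] at hj
  have h2 : orderOf x = 1 := by
    rw [hi]
    exact Nat.eq_one_of_dvd_coprimes (Nat.Coprime.pow i j ((Nat.coprime_primes hp Nat.prime_two).2 hp2))
      dvd_rfl (dvd_of_eq hj)
  exact orderOf_eq_one_iff.1 h2

theorem false_of_solvable_quotient (hperf : commutator G = ⊤) {K : Subgroup G} [K.Normal] (hK : K ≠ ⊤)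
    [Group.IsSolvable (G ⧸ K)] : False := by
  have hs : derivedSeries (G ⧸ K) 1 = ⊤ := by
    rw [derivedSeries_one, _root_.commutator_def, ← map_top_of_surjective (QuotientGroup.mk' K)
      (QuotientGroup.mk'_surjective K), ← map_commutator, ← _root_.commutator_def, hperf]
  have hall : ∀ n, derivedSeries (G ⧸ K) n = ⊤ := fun n => by
    induction n with
    | zero => rfl
    | succ n ih => rw [derivedSeries_succ, ih, ← derivedSeries_zero, ← derivedSeries_succ]; exact hs
  obtain ⟨n, hn⟩ := (Group.isSolvable_def (G ⧸ K)).1 inferInstance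
  rw [hall n] at hn
  refine hK (eq_top_iff.2 fun x _ => (QuotientGroup.eq_one_iff x).1 (mem_bot.1 (hn ▸ mem_top _)))

/-- Perfect groups with cyclic odd Sylow subgroups and almost cyclic Sylow 2-subgroups. -/
theorem perfect_structure (hGW : GWReduce.DihedralGW.{u}) {X : Type u} [Group X] [Finite X] [Nontrivial X]
    (hperf : commutator X = ⊤) (hodd : OddCyclic X) (h2 : TwoCyclic X) :
    ∃ (p : ℕ) (_ : Fact p.Prime), 5 ≤ p ∧
      (Nonempty (X ≃* Matrix.ProjectiveSpecialLinearGroup (Fin 2) (ZMod p)) ∨
        Nonempty (X ≃* Matrix.SpecialLinearGroup (Fin 2) (ZMod p))) := by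
  haveI := Fact.mk Nat.prime_two
  haveI hP : Group.IsPerfect X := ⟨hperf⟩
  have hcore : Cfsg.oddCore X = ⊥ := core_eq_bot hperf hodd _
    (Nat.coprime_two_right.1 (Cores.coprime_card_pPrimeCore (G := X) 2))
  obtain ⟨S⟩ := (inferInstance : Nonempty (Sylow 2 X))
  obtain ⟨C, hC, hCi⟩ := h2 S
  haveI := normal_of_index_dvd_two hCi
  haveI := hC
  have hQc : IsCyclic ((S : Subgroup X) ⧸ C) := by
    rcases (Nat.dvd_prime Nat.prime_two).1 hCi with e | e <;> rw [index_eq_card] at e
    · haveI := (Nat.card_eq_one_iff_unique.1 e).1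
      infer_instance
    · exact isCyclic_of_prime_card e
  have hm : Cfsg.IsMetacyclic (S : Subgroup X) := ⟨C, inferInstance, hC, hQc⟩
  have hmax : FusionMetaTwo.MaxClassTwo (S : Subgroup X) := by
    by_contra hx
    have hh : ¬ ∃ n : ℕ, 0 < n ∧ Nonempty ((S : Subgroup X) ≃*
        Multiplicative (ZMod (2 ^ n)) × Multiplicative (ZMod (2 ^ n))) := by
      rintro ⟨n, hn, ⟨e⟩⟩
      have hexp : ∀ z : (S : Subgroup X), z ^ 2 ^ n = 1 := fun z => e.injective (by
        rw [map_pow, map_one]
        refine Prod.ext ?_ ?_ <;>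
        · refine Multiplicative.toAdd.injective ?_
          simp)
      have hcS : Nat.card (S : Subgroup X) = 2 ^ n * 2 ^ n := by
        rw [Nat.card_congr e.toEquiv, Nat.card_prod, Nat.card_congr Multiplicative.toAdd, Nat.card_zmod]
      obtain ⟨g, hg⟩ := IsCyclic.exists_generator (α := C)
      have hCn : Nat.card C ∣ 2 ^ n := by
        rw [← orderOf_eq_card_of_forall_mem_zpowers hg]
        exact orderOf_dvd_of_pow_eq_one (Subtype.ext (hexp g))
      have hn1 : n = 1 := by
        by_contra hn1
        have h4 : 4 ≤ 2 ^ n := by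
          calc 4 = 2 ^ 2 := rfl
            _ ≤ 2 ^ n := Nat.pow_le_pow_right two_pos (by omega)
        have h1 := C.card_mul_index
        rw [hcS] at h1
        have := Nat.le_of_dvd (by positivity) hCn
        have := Nat.le_of_dvd two_pos hCi
        nlinarith
      subst hn1
      refine hx (Or.inl ⟨2, le_rfl, ?_⟩)
      haveI : IsKleinFour (S : Subgroup X) := ⟨by rw [hcS]; norm_num, by
        haveI : Nontrivial (S : Subgroup X) := Finite.one_lt_card_iff_nontrivial.1 (by rw [hcS]; norm_num)
        exact (Monoid.exponent_eq_prime_iff Nat.prime_two).2 fun g hg => orderOf_eq_prime (by simpa using hexp g) hg⟩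
      exact IsKleinFour.nonempty_mulEquiv
    obtain ⟨Q, K, hKn, hKQ⟩ :=
      (IsolatedElts.hasNormalPComplement_iff_noFusion S).2 (OddUse.noFusion_of_metacyclic S hm hx hh)
    haveI := hKn
    obtain ⟨k, hk⟩ := Q.2.exists_card_eq
    have hKi : K.index = 2 ^ k := by rw [hKQ.symm.index_eq_card, hk]
    haveI : Group.IsSolvable (X ⧸ K) := by
      haveI := (IsPGroup.of_card (G := X ⧸ K) (p := 2) (n := k) (by rw [← index_eq_card, hKi])).isNilpotent
      infer_instance
    refine false_of_solvable_quotient hperf (K := K) fun e => ?_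
    rw [e, index_top] at hKi
    have hodd' : Odd (Nat.card X) := by
      rw [← Nat.not_even_iff_odd, even_iff_two_dvd]
      intro h2'
      have h3 := Q.dvd_card_of_dvd_card h2'
      rw [hk, ← hKi] at h3
      norm_num at h3
    have h4 := core_eq_bot hperf hodd ⊤ (by rwa [card_top])
    exact absurd (congrArg (fun H : Subgroup X => Nat.card H) h4) (by
      simp only [card_top, card_bot]; exact Finite.one_lt_card.ne')
  -- transport to the prime field
  have hfin : ∀ (F : Type) [Field F] [Fintype F], Odd (Fintype.card F) → 3 < Fintype.card F →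
      OddCyclic (Matrix.SpecialLinearGroup (Fin 2) F) →
      ∃ p : ℕ, p.Prime ∧ 5 ≤ p ∧ Nonempty (F ≃+* ZMod p) := by
    intro F _ _ ho h3 hc
    have hp := prime_card (F := F) (by rwa [Nat.card_eq_fintype_card]) hc
    rw [Nat.card_eq_fintype_card] at hp
    refine ⟨_, hp, ?_, ⟨(ZMod.ringEquivOfPrime F hp rfl).symm⟩⟩
    obtain ⟨k, hk⟩ := ho
    omega
  rcases hmax with ⟨n, hn, hS⟩ | hS | ⟨n, hn, ⟨eS⟩⟩
  · rcases GWReduce.result_of_simple hGW S n hn hS with ⟨F, hF1, hF2, ho, h3, ⟨e⟩⟩ | ⟨⟨e⟩⟩
    · let e' : X ≃* PSL2 F := ((QuotientGroup.quotientMulEquivOfEq hcore).trans QuotientGroup.quotientBot).symm.trans e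
      have hc : OddCyclic (SL2 F) := (hodd.of_equiv e').of_two_kernel
        (QuotientGroup.mk' (center (SL2 F))) (by
          rw [QuotientGroup.ker_mk']
          refine IsPGroup.of_card (n := 1) ?_
          rw [GLOrder.card_center_SL, Fintype.card_fin, pow_one, Nat.card_eq_fintype_card]
          exact Nat.gcd_eq_left (by obtain ⟨k, hk⟩ := ho; omega))
      obtain ⟨p, hp, hp5, ⟨r⟩⟩ := hfin F ho h3 hc
      exact ⟨p, ⟨hp⟩, hp5, Or.inl ⟨e'.trans (by haveI := Fact.mk hp; exact Linear.pslMapEquiv r)⟩⟩
    · exact absurd ((hodd.of_surjective (QuotientGroup.mk'_surjective _)).of_equiv e) not_oddCyclic_alt_seven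
  · exact absurd hperf fun h => no_perfect_semidihedral hGW S hS h hodd
  · haveI : (Cfsg.oddCore X).Normal := Cores.pPrimeCore_normal 2 X
    have h1 : Cfsg.PRankLE 2 1 X := by
      intro A hA hA2
      haveI := hA
      obtain ⟨T, hT⟩ := (show IsPGroup 2 A from fun a => ⟨1, Subtype.ext (by rw [pow_one]; exact hA2 a a.2)⟩).exists_le_sylow
      haveI : NeZero n := ⟨by omega⟩
      let f : A →* QuaternionGroup n := ((T.equiv S).trans eS).toMonoidHom.comp (inclusion hT)
      have hf : Function.Injective f := ((T.equiv S).trans eS).injective.comp (inclusion_injective _)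
      have key : ∀ x : QuaternionGroup n, x ^ 2 = 1 → x = 1 ∨ x = QuaternionGroup.a (n : ZMod (2 * n)) := by
        intro x hx
        rcases x with i | i
        · rw [pow_two, QuaternionGroup.a_mul_a, QuaternionGroup.one_def, QuaternionGroup.a.injEq] at hx
          have hdvd : 2 * n ∣ i.val + i.val := by
            rw [← ZMod.natCast_eq_zero_iff, Nat.cast_add, ZMod.natCast_zmod_val]
            exact hx
          have hlt := ZMod.val_lt i
          obtain ⟨c, hc⟩ := hdvd
          have hc2 : c < 2 := by nlinarith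
          rcases (by interval_cases c <;> omega : i.val = 0 ∨ i.val = n) with e | e
          · left; rw [← ZMod.natCast_zmod_val i, e, Nat.cast_zero]; exact QuaternionGroup.one_def.symm
          · right; rw [← ZMod.natCast_zmod_val i, e]
        · exfalso
          rw [QuaternionGroup.xa_sq, QuaternionGroup.one_def, QuaternionGroup.a.injEq,
            ZMod.natCast_eq_zero_iff] at hx
          have := Nat.le_of_dvd (by omega) hx
          omega
      have hle : ∀ a : A, f a = 1 ∨ f a = QuaternionGroup.a (n : ZMod (2 * n)) := fun a =>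
        key _ (by rw [← map_pow, show a ^ 2 = 1 from Subtype.ext (hA2 a a.2), map_one])
      refine le_trans (Nat.card_le_card_of_injective
        (fun a : A => (⟨f a, by simpa using hle a⟩ : ({1, QuaternionGroup.a (n : ZMod (2 * n))} : Set (QuaternionGroup n))))
        fun a b e => hf (congrArg Subtype.val e)) ?_
      rw [Nat.card_coe_set_eq, pow_one]
      exact (Set.ncard_insert_le _ _).trans (by rw [Set.ncard_singleton])
    have h2' : 2 ∣ Nat.card X := by
      haveI : NeZero n := ⟨by omega⟩
      refine dvd_trans ?_ (card_subgroup_dvd_card (S : Subgroup X))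
      rw [Nat.card_congr eS.toEquiv, Nat.card_eq_fintype_card, QuaternionGroup.card]
      omega
    rcases RankOneSylow.perfect_rank_one (fun Y _ _ hY T m hm' hT => by
        haveI : Group.IsPerfect Y := ⟨hY⟩
        exact GWReduce.result_of_simple hGW T m hm' hT) hperf h1 h2' with ⟨F, hF1, hF2, ho, h3, ⟨e⟩⟩ | hcov
    · let e' : X ≃* SL2 F := ((QuotientGroup.quotientMulEquivOfEq hcore).trans QuotientGroup.quotientBot).symm.trans e
      obtain ⟨p, hp, hp5, ⟨r⟩⟩ := hfin F ho h3 (hodd.of_equiv e')
      exact ⟨p, ⟨hp⟩, hp5, Or.inr ⟨e'.trans (by haveI := Fact.mk hp; exact Linear.slMapEquiv r)⟩⟩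
    · obtain ⟨-, ⟨e⟩, -⟩ := hcov
      exact absurd (((hodd.of_surjective (QuotientGroup.mk'_surjective _)).of_surjective
        (QuotientGroup.mk'_surjective _)).of_equiv e) not_oddCyclic_alt_seven

end Cfsg.Agent.SylowCyclicSuzuki
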