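import Cfsg.Agent.Lib.SylowCyclicSuzuki.Perfect
import Cfsg.Agent.Lib.AbelianTwoFactor.ClassSize
import Mathlib.FieldTheory.Finite.Basic

/-!
# The structure of a non-solvable group with almost cyclic Sylow subgroups

* `structure_theorem` : such a group has a normal subgroup of index at most two which is the direct product of a
  group of odd order with all Sylow subgroups cyclic and of `PSL(2, p)` or `SL(2, p)`.
-/

set_option autoImplicit false
set_option linter.unusedSectionVars false

namespace Cfsg.Agent.SylowCyclicSuzuki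

open Subgroup
open Cfsg.Agent.PSL2 (PSL2 PGL2 SL2)
open scoped commutatorElement

universe u

variable {G : Type u} [Group G] [Finite G]

/-- An elementary abelian 2-subgroup has order at most four. -/
theorem TwoCyclic.four_bound (h2 : TwoCyclic G) {H : Subgroup G} (hH : ∀ x ∈ H, x * x = 1) :
    Nat.card H ≤ 4 := by
  haveI := Fact.mk Nat.prime_two
  obtain ⟨A, hA, hAi⟩ := h2.of_injective (H := H)
    (fun x => ⟨1, Subtype.ext (by rw [pow_one]; exact (pow_two (x : G)).trans (hH x x.2))⟩) H.subtype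
    H.subtype_injective
  haveI := hA
  obtain ⟨g, hg⟩ := IsCyclic.exists_generator (α := A)
  have h1 : Nat.card A ∣ 2 := by
    rw [← orderOf_eq_card_of_forall_mem_zpowers hg]
    exact orderOf_dvd_of_pow_eq_one (Subtype.ext (Subtype.ext (by
      simp only [SubmonoidClass.coe_pow, OneMemClass.coe_one]
      exact (pow_two _).trans (hH _ (g : H).2))))
  rw [← A.card_mul_index]
  exact Nat.mul_le_mul (Nat.le_of_dvd two_pos h1) (Nat.le_of_dvd two_pos hAi)

/-- Two anticommuting elements of order four in `SL(2)`. -/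
theorem exists_anticomm (p : ℕ) [Fact p.Prime] :
    ∃ i j : SL2 (ZMod p), i * i = -1 ∧ j * j = -1 ∧ i * j = -(j * i) := by
  obtain ⟨a, b, hab⟩ := ZMod.sq_add_sq p (-1)
  refine ⟨⟨!![0, 1; -1, 0], by simp [Matrix.det_fin_two]⟩,
    ⟨!![a, b; b, -a], by rw [Matrix.det_fin_two]; simp; linear_combination -hab⟩, ?_, ?_, ?_⟩
  · refine Subtype.ext ?_
    show (!![0, 1; -1, 0] : Matrix (Fin 2) (Fin 2) (ZMod p)) * (!![0, 1; -1, 0] : Matrix (Fin 2) (Fin 2) (ZMod p)) = -(1 : Matrix (Fin 2) (Fin 2) (ZMod p))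
    ext k l; fin_cases k <;> fin_cases l <;> simp [Matrix.mul_apply, Fin.sum_univ_two]
  · refine Subtype.ext ?_
    show (!![a, b; b, -a] : Matrix (Fin 2) (Fin 2) (ZMod p)) * (!![a, b; b, -a] : Matrix (Fin 2) (Fin 2) (ZMod p)) = -(1 : Matrix (Fin 2) (Fin 2) (ZMod p))
    ext k l; fin_cases k <;> fin_cases l <;> simp [Matrix.mul_apply, Fin.sum_univ_two] <;>
      first | linear_combination hab | ring
  · refine Subtype.ext ?_
    show (!![0, 1; -1, 0] : Matrix (Fin 2) (Fin 2) (ZMod p)) * (!![a, b; b, -a] : Matrix (Fin 2) (Fin 2) (ZMod p)) = -((!![a, b; b, -a] : Matrix (Fin 2) (Fin 2) (ZMod p)) * (!![0, 1; -1, 0] : Matrix (Fin 2) (Fin 2) (ZMod p)))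
    ext k l; fin_cases k <;> fin_cases l <;> simp [Matrix.mul_apply, Fin.sum_univ_two]

/-- In a 2-subgroup the quaternion part absorbs what centralises it. -/
theorem mem_of_quaternion (h2 : TwoCyclic G) {z u v w : G} (hz : ∃ k : ℕ, z ^ 2 ^ k = 1) (hu : u * u = w)
    (hv : v * v = w) (hw : w * w = 1) (hw1 : w ≠ 1) (huv : u * v * u⁻¹ = v⁻¹)
    (hzu : Commute z u) (hzv : Commute z v) : z = 1 ∨ z = w := by
  haveI := Fact.mk Nat.prime_two
  obtain ⟨k, hk⟩ := hz
  have hu4 : u ^ 2 ^ 2 = 1 := by rw [show 2 ^ 2 = 2 * 2 from rfl, pow_mul, pow_two u, hu, pow_two, hw]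
  have hv4 : v ^ 2 ^ 2 = 1 := by rw [show 2 ^ 2 = 2 * 2 from rfl, pow_mul, pow_two v, hv, pow_two, hw]
  have hp : ∀ {x : G} {n : ℕ}, x ^ 2 ^ n = 1 → IsPGroup 2 (zpowers x) := by
    intro x n hx
    obtain ⟨i, -, hi⟩ := (Nat.dvd_prime_pow Nat.prime_two).1 (orderOf_dvd_of_pow_eq_one hx)
    exact IsPGroup.of_card (n := i) (by rw [Nat.card_zpowers, hi])
  have hnorm : ∀ {x : G} {K : Subgroup G}, (∀ y ∈ K, x * y * x⁻¹ ∈ K) → zpowers x ≤ normalizer (K : Set G) := by
    intro x K hx
    have hle : K.map (MulAut.conj x).toMonoidHom ≤ K := by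
      rintro _ ⟨y, hy, rfl⟩
      simpa using hx y hy
    have heq := eq_of_le_of_card_ge hle
      (card_map_of_injective (f := (MulAut.conj x).toMonoidHom) (K := K) (MulEquiv.injective _)).ge
    rw [zpowers_le, mem_normalizer_iff]
    refine fun y => ⟨hx y, fun hy => ?_⟩
    rw [← heq] at hy
    obtain ⟨y', hy', e⟩ := hy
    exact (MulEquiv.injective (MulAut.conj x)) (e.trans (MulAut.conj_apply _ _).symm) ▸ hy'
  set Q := zpowers u ⊔ zpowers v
  have hQ : IsPGroup 2 Q := (hp hu4).to_sup_of_normal_right' (hp hv4) (hnorm (by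
    rintro _ ⟨m, rfl⟩
    dsimp only
    rw [← conj_zpow, huv]
    exact zpow_mem (inv_mem (mem_zpowers v)) m))
  have hzQ : ∀ y ∈ Q, Commute z y := by
    intro y hy
    have hle : Q ≤ centralizer {z} := sup_le (zpowers_le.2 (mem_centralizer_singleton_iff.2 hzu.eq.symm))
      (zpowers_le.2 (mem_centralizer_singleton_iff.2 hzv.eq.symm))
    exact (mem_centralizer_singleton_iff.1 (hle hy)).symm
  set H := zpowers z ⊔ Q
  have hH : IsPGroup 2 H := (hp hk).to_sup_of_normal_right' hQ (hnorm fun y hy => by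
    rw [(hzQ y hy).eq, mul_inv_cancel_right]; exact hy)
  obtain ⟨A, hA, hAi⟩ := h2.of_injective hH H.subtype H.subtype_injective
  haveI := hA
  let z' : H := ⟨z, mem_sup_left (mem_zpowers z)⟩
  let u' : H := ⟨u, mem_sup_right (mem_sup_left (mem_zpowers u))⟩
  let v' : H := ⟨v, mem_sup_right (mem_sup_right (mem_zpowers v))⟩
  have hAc : ∀ x ∈ A, ∀ y ∈ A, Commute x y := fun x hx y hy =>
    congrArg Subtype.val (IsMulCommutative.is_comm.comm (⟨x, hx⟩ : A) ⟨y, hy⟩)
  have huv' : u' * v' * u'⁻¹ = v'⁻¹ := Subtype.ext huv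
  have hv2 : v' * v' ≠ 1 := fun e => hw1 (hv ▸ congrArg Subtype.val e)
  have hu2 : u' * u' ≠ 1 := fun e => hw1 (hu ▸ congrArg Subtype.val e)
  have hidx : A.index = 2 := by
    refine ((Nat.dvd_prime Nat.prime_two).1 hAi).resolve_left fun e => ?_
    have hc := hAc u' (index_eq_one.1 e ▸ mem_top _) v' (index_eq_one.1 e ▸ mem_top _)
    rw [hc.eq, mul_inv_cancel_right] at huv'
    exact hv2 (by nth_rw 2 [huv']; exact mul_inv_cancel _)
  have hinvu : v' * u' * v'⁻¹ = u'⁻¹ := by
    have e1 : u' * u' = v' * v' := Subtype.ext (hu.trans hv.symm)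
    have e2 : v' * u' * v' = u' := by
      have := congrArg (fun x => x * u') huv'
      simp only [inv_mul_cancel_right] at this
      rw [mul_assoc, this, ← mul_assoc, mul_inv_cancel, one_mul]
    have e3 : (v' * u' * v'⁻¹) * u' = 1 := by
      calc v' * u' * v'⁻¹ * u' = v' * u' * v'⁻¹ * (v' * u' * v') := by rw [e2]
        _ = v' * (u' * u') * v' := by group
        _ = (v' * v') * (v' * v') := by rw [e1]; group
        _ = 1 := Subtype.ext (by show v * v * (v * v) = 1; rw [hv, hw])
    exact eq_inv_of_mul_eq_one_left e3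
  obtain ⟨a, b, ha, hb, hab, ha2, hza, hzb⟩ : ∃ a b : H, a ∈ A ∧ b ∉ A ∧ b * a * b⁻¹ = a⁻¹ ∧
      (a : G) * a = w ∧ Commute z' a ∧ Commute z' b := by
    have hnc : ¬ (u' ∈ A ∧ v' ∈ A) := fun ⟨h1, h1'⟩ => by
      have hc := hAc u' h1 v' h1'
      rw [hc.eq, mul_inv_cancel_right] at huv'
      exact hv2 (by nth_rw 2 [huv']; exact mul_inv_cancel _)
    have hzu' : Commute z' u' := Subtype.ext hzu.eq
    have hzv' : Commute z' v' := Subtype.ext hzv.eq
    by_cases h1 : u' ∈ A
    · exact ⟨u', v', h1, fun h => hnc ⟨h1, h⟩, hinvu, hu, hzu', hzv'⟩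
    by_cases h1' : v' ∈ A
    · exact ⟨v', u', h1', h1, huv', hv, hzv', hzu'⟩
    refine ⟨u' * v', v', (mul_mem_iff_of_index_two hidx).2 (iff_of_false h1 h1'), h1', ?_, ?_,
      hzu'.mul_right hzv', hzv'⟩
    · calc v' * (u' * v') * v'⁻¹ = v' * u' := by group
        _ = (u' * v')⁻¹ := by
          rw [mul_inv_rev, show v'⁻¹ * u'⁻¹ = v'⁻¹ * (v' * u' * v'⁻¹) by rw [hinvu]]
          have e3 : v'⁻¹ = v' * (v' * v') := inv_eq_of_mul_eq_one_right (Subtype.ext (by
            show v * (v * (v * v)) = 1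
            rw [hv, ← mul_assoc, hv, hw]))
          calc v' * u' = u'⁻¹ * v' := by rw [← hinvu]; group
            _ = u' * (u' * u') * v' := by
              rw [show u'⁻¹ = u' * (u' * u') from inv_eq_of_mul_eq_one_right (Subtype.ext (by
                show u * (u * (u * u)) = 1
                rw [hu, ← mul_assoc, hu, hw]))]
            _ = u' * (v' * v') * v' := by rw [show u' * u' = v' * v' from Subtype.ext (hu.trans hv.symm)]
            _ = v'⁻¹ * (v' * u' * v'⁻¹) := by
              rw [show v'⁻¹ * (v' * u' * v'⁻¹) = u' * v'⁻¹ by group, e3]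
              group
    · show u * v * (u * v) = w
      calc u * v * (u * v) = u * v * u⁻¹ * (u * u) * v := by group
        _ = v⁻¹ * w * v := by rw [huv, hu]
        _ = w := by rw [← hv]; group
  have hzA : z' ∈ A := by
    by_contra hn
    have h1 : z' * b ∈ A := (mul_mem_iff_of_index_two hidx).2 (iff_of_false hn hb)
    have h3 := (hAc _ h1 a ha).eq
    have e : (z' * b) * a * (z' * b)⁻¹ = a⁻¹ := by
      rw [show z' * b * a * (z' * b)⁻¹ = z' * (b * a * b⁻¹) * z'⁻¹ by group, hab, hza.inv_right.eq,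
        mul_inv_cancel_right]
    rw [h3, mul_inv_cancel_right] at e
    refine hw1 ?_
    rw [← ha2]
    exact congrArg Subtype.val (by nth_rw 2 [e]; exact mul_inv_cancel a : a * a = 1)
  have hAcyc : IsCyclic (A.map H.subtype) :=
    isCyclic_of_surjective (A.equivMapOfInjective _ H.subtype_injective).toMonoidHom (MulEquiv.surjective _)
  have hwA : w ∈ A.map H.subtype := ⟨a * a, mul_mem ha ha, ha2⟩
  obtain ⟨i, -, hi⟩ := (Nat.dvd_prime_pow Nat.prime_two).1 (orderOf_dvd_of_pow_eq_one hk)
  have how : orderOf w = 2 := orderOf_eq_prime (by rw [pow_two, hw]) hw1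
  rcases (by omega : i ≤ 1 ∨ 2 ≤ i) with h1 | h1
  · have hm := PairsCyclic.mem_zpowers_of_cyclic hAcyc hwA (mem_map_of_mem H.subtype hzA) (by
      rw [how]
      exact orderOf_dvd_iff_pow_eq_one.1 (show orderOf z ∣ 2 by rw [hi]; exact (pow_dvd_pow 2 h1).trans (dvd_of_eq (pow_one 2))))
    obtain ⟨m, hm⟩ := hm
    replace hm : w ^ m = z := hm
    rcases Int.even_or_odd m with ⟨j, rfl⟩ | ⟨j, rfl⟩
    · left
      rw [← hm, ← two_mul, zpow_mul, zpow_ofNat, pow_two, hw, one_zpow]
    · right
      rw [← hm, zpow_add_one, zpow_mul, zpow_ofNat, pow_two, hw, one_zpow, one_mul]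
  · exfalso
    have ha4 : (a : G) ^ 4 = 1 := by rw [show 4 = 2 * 2 from rfl, pow_mul, pow_two (a : G), ha2, pow_two, hw]
    have hz4 : orderOf (z ^ 2 ^ (i - 2)) = 4 := by
      rw [orderOf_pow_of_dvd (pow_ne_zero _ two_ne_zero) (hi ▸ pow_dvd_pow 2 (by omega)), hi,
        Nat.pow_div (by omega) two_pos, show i - (i - 2) = 2 by omega]
      norm_num
    obtain ⟨m, hm⟩ := PairsCyclic.mem_zpowers_of_cyclic hAcyc (pow_mem (mem_map_of_mem H.subtype hzA) _)
      (mem_map_of_mem H.subtype ha) (by rw [show H.subtype z' = z from rfl, hz4]; exact ha4)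
    dsimp only at hm
    rw [show H.subtype z' = z from rfl, show H.subtype a = (a : G) from rfl] at hm
    have hbz : Commute (b : G) (a : G) := by
      rw [← hm]
      exact ((show Commute (b : G) z from (congrArg Subtype.val hzb.eq).symm).pow_right _).zpow_right _
    refine hw1 ?_
    rw [← ha2]
    have e : (a : G) = (a : G)⁻¹ := by
      have := congrArg Subtype.val hab
      rwa [Subgroup.coe_mul, Subgroup.coe_mul, Subgroup.coe_inv, hbz.eq, mul_inv_cancel_right] at this
    nth_rw 2 [e]
    exact mul_inv_cancel _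

/-- The identification of the perfect part. -/
theorem psl_center_eq_bot {F : Type} [Field F] [Finite F] (h : 4 ≤ Nat.card F) : center (PSL2 F) = ⊥ := by
  haveI := PSL2.isSimpleGroup_psl (L := F) h
  rcases (inferInstance : (center (PSL2 F)).Normal).eq_bot_or_eq_top with e | e
  · exact e
  exfalso
  have hc : ∀ a b : PSL2 F, a * b = b * a := fun a b => (mem_center_iff.1 (e.ge (mem_top a)) b).symm
  haveI := Group.isSolvable_of_comm hc
  haveI : IsMulCommutative (PSL2 F) := ⟨⟨hc⟩⟩
  letI : CommGroup (PSL2 F) := { (inferInstance : Group (PSL2 F)) with mul_comm := hc }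
  have hp := IsSimpleGroup.prime_card (α := PSL2 F)
  have hcard := GLOrder.card_PSL_two (F := F)
  change Nat.card (PSL2 F) = _ at hcard
  rw [hcard] at hp
  rcases Nat.even_or_odd (Nat.card F) with he | ho
  · have hg : Nat.gcd 2 (Nat.card F - 1) = 1 := Nat.Coprime.gcd_eq_one
      ((Nat.Prime.coprime_iff_not_dvd Nat.prime_two).2 (by obtain ⟨k, hk⟩ := he; omega))
    rw [hg, Nat.div_one] at hp
    rcases (Nat.dvd_prime hp).1 (dvd_mul_right _ _) with e1 | e1
    · omega
    · have h15 : 15 ≤ Nat.card F ^ 2 - 1 := by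
        have := Nat.pow_le_pow_left h 2
        omega
      nlinarith
  · have h2' := GLOrder.card_PSL_two_of_odd (F := F) ho
    change 2 * Nat.card (PSL2 F) = _ at h2'
    rw [hcard] at h2'
    obtain ⟨k, hk⟩ := ho
    have h15 : 15 ≤ Nat.card F ^ 2 - 1 := by
      have := Nat.pow_le_pow_left h 2
      omega
    have hd : Nat.card F ∣ Nat.card F * (Nat.card F ^ 2 - 1) / Nat.gcd 2 (Nat.card F - 1) :=
      (Nat.Coprime.dvd_of_dvd_mul_left (by
        refine ((Nat.Prime.coprime_iff_not_dvd Nat.prime_two).2 ?_).symm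
        omega) ⟨_, h2'⟩)
    rcases (Nat.dvd_prime hp).1 hd with e1 | e1
    · omega
    · rw [← e1] at h2'
      nlinarith

theorem structure_theorem (hGW : GWReduce.DihedralGW.{u}) (hns : ¬ Group.IsSolvable G)
    (hodd : OddCyclic G) (h2 : TwoCyclic G) :
    ∃ G₀ : Subgroup G, G₀.Normal ∧ G₀.index ∣ 2 ∧
      ∃ X L : Subgroup ↥G₀, X.Normal ∧ L.Normal ∧ X ⊓ L = ⊥ ∧ X ⊔ L = ⊤ ∧ (Nat.card X).Coprime (Nat.card L) ∧
        Odd (Nat.card X) ∧ (∃ (C : Subgroup ↥X) (_ : C.Normal), IsCyclic C ∧ IsCyclic (↥X ⧸ C)) ∧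
        ∃ (p : ℕ) (_ : Fact p.Prime), 5 ≤ p ∧
          (Nonempty (↥L ≃* Matrix.ProjectiveSpecialLinearGroup (Fin 2) (ZMod p)) ∨
           Nonempty (↥L ≃* Matrix.SpecialLinearGroup (Fin 2) (ZMod p))) := by
  haveI := Fact.mk Nat.prime_two
  obtain ⟨L, hLn, -, hLns, hLp⟩ := AbelianTwoFactor.exists_perfect_normal (K := (⊤ : Subgroup G))
    (fun h => hns (by
      haveI := h
      exact Group.isSolvable_of_surjective (f := (⊤ : Subgroup G).subtype) fun x => ⟨⟨x, mem_top x⟩, rfl⟩))
  haveI := hLn
  haveI : Nontrivial L := by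
    rcases subsingleton_or_nontrivial L with hs | hn
    · exact absurd (Group.isSolvable_of_comm fun a b => Subsingleton.elim _ _) hLns
    · exact hn
  obtain ⟨p, hp, hp5, hL⟩ := perfect_structure hGW (X := L) hLp (hodd.subgroup L) (h2.subgroup L)
  haveI := hp
  have hcardF : Nat.card (ZMod p) = p := Nat.card_zmod p
  have hoddF : Odd (Nat.card (ZMod p)) := hcardF.symm ▸ hp.out.odd_of_ne_two (by omega)
  have h2F : (2 : ZMod p) ≠ 0 := PSL2.two_ne_zero_of_dvd (by
    obtain ⟨k, hk⟩ := hoddF; exact ⟨k, by omega⟩)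
  obtain ⟨i, j, hi, hj, hij⟩ := exists_anticomm p
  set C := centralizer (L : Set G) with hCdef
  haveI : C.Normal := by rw [hCdef]; infer_instance
  -- the action on the simple quotient
  obtain ⟨A, ρ, hA, hρs, hAρ, htwo, hLC⟩ : ∃ (A : MulAut L →* MulAut (PSL2 (ZMod p))) (ρ : L →* PSL2 (ZMod p)),
      Function.Injective A ∧ Function.Surjective ρ ∧ (∀ l, A (MulAut.conj l) = MulAut.conj (ρ l)) ∧
      (∀ z ∈ C, (∃ k : ℕ, z ^ 2 ^ k = 1) → z ∈ L) ∧ Nat.card (L.subgroupOf C) ∣ 2 := by
    have hcen : Nat.card (L.subgroupOf C) = Nat.card (center L) := Nat.card_congr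
      { toFun := fun c => ⟨⟨((c : C) : G), mem_subgroupOf.1 c.2⟩, mem_center_iff.2 fun l =>
          Subtype.ext (mem_centralizer_iff.1 (c : C).2 l l.2)⟩
        invFun := fun l => ⟨⟨((l : L) : G), mem_centralizer_iff.2 fun y hy =>
          congrArg Subtype.val (mem_center_iff.1 l.2 ⟨y, hy⟩)⟩, (l : L).2⟩
        left_inv := fun c => rfl
        right_inv := fun l => rfl }
    rcases hL with ⟨⟨e⟩⟩ | ⟨⟨e⟩⟩
    · refine ⟨(MulAut.congr e).toMonoidHom, e.toMonoidHom, (MulAut.congr e).injective, e.surjective,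
        fun l => MulEquiv.ext fun y => by simp, fun z hz hk => ?_, ?_⟩
      · by_contra hzL
        -- an involution of the centralizer outside `L`
        obtain ⟨k, hk⟩ := hk
        obtain ⟨m, -, hm⟩ := (Nat.dvd_prime_pow Nat.prime_two).1 (orderOf_dvd_of_pow_eq_one hk)
        rcases m with _ | m
        · rw [pow_zero, orderOf_eq_one_iff] at hm; exact hzL (hm ▸ one_mem L)
        set w := z ^ 2 ^ m
        have hwo : orderOf w = 2 := by
          rw [orderOf_pow_of_dvd (pow_ne_zero _ two_ne_zero) (hm ▸ pow_dvd_pow 2 (by omega)), hm,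
            Nat.pow_div (by omega) two_pos, show m + 1 - m = 1 by omega, pow_one]
        have hwC : w ∈ C := pow_mem hz _
        have hwL : w ∉ L := fun hwL => by
          have hc : e ⟨w, hwL⟩ ∈ center (PSL2 (ZMod p)) := mem_center_iff.2 fun y => by
            obtain ⟨l, rfl⟩ := e.surjective y
            rw [← map_mul, ← map_mul]
            exact congrArg e (Subtype.ext (mem_centralizer_iff.1 hwC l l.2))
          rw [psl_center_eq_bot (by omega : 4 ≤ Nat.card (ZMod p)), mem_bot, MulEquiv.map_eq_one_iff] at hc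
          rw [show w = 1 from congrArg Subtype.val hc, orderOf_one] at hwo
          omega
        set u := (e.symm (i : PSL2 (ZMod p)) : L)
        set v := (e.symm (j : PSL2 (ZMod p)) : L)
        have hneg : ((-1 : SL2 (ZMod p)) : PSL2 (ZMod p)) = 1 :=
          (QuotientGroup.eq_one_iff _).2 (GLOrder.center_SL2.2 (Or.inr rfl))
        have hii : (i : PSL2 (ZMod p)) * i = 1 := by rw [← QuotientGroup.mk_mul, hi, hneg]
        have hjj : (j : PSL2 (ZMod p)) * j = 1 := by rw [← QuotientGroup.mk_mul, hj, hneg]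
        have hiji : (i : PSL2 (ZMod p)) * j = j * i := by
          rw [← QuotientGroup.mk_mul, ← QuotientGroup.mk_mul, hij,
            show -(j * i) = (-1 : SL2 (ZMod p)) * (j * i) by simp, QuotientGroup.mk_mul, hneg, one_mul]
        have hnc : ∀ x : SL2 (ZMod p), x * x = -1 → (x : PSL2 (ZMod p)) ≠ 1 := fun x hx e0 => by
          have hne : (1 : SL2 (ZMod p)) ≠ -1 := fun e1 => h2F (by
            have := congrArg (fun g : SL2 (ZMod p) => g.1 0 0) e1
            simp at this
            linear_combination this)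
          rcases GLOrder.center_SL2.1 ((QuotientGroup.eq_one_iff x).1 e0) with rfl | rfl
          · exact hne (by rw [← hx, one_mul])
          · exact hne (by rw [← hx]; simp)
        have huv : (i : PSL2 (ZMod p)) ≠ j := fun e0 => by
          have h1 : ((i * j : SL2 (ZMod p)) : PSL2 (ZMod p)) ≠ 1 := hnc _ (by
            rw [show i * j * (i * j) = i * (j * i) * j by group, show j * i = -(i * j) by rw [hij, neg_neg],
              mul_neg, neg_mul, show i * (i * j) * j = (i * i) * (j * j) by group, hi, hj]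
            simp)
          exact h1 (by rw [QuotientGroup.mk_mul, e0, hjj])
        have hu2 : (u : G) * u = 1 := by
          rw [← Subgroup.coe_mul, ← map_mul, hii, map_one, Subgroup.coe_one]
        have hv2 : (v : G) * v = 1 := by
          rw [← Subgroup.coe_mul, ← map_mul, hjj, map_one, Subgroup.coe_one]
        have huvc : (u : G) * v = v * u := by
          rw [← Subgroup.coe_mul, ← Subgroup.coe_mul, ← map_mul, ← map_mul, hiji]
        have hwu : w * u = (u : G) * w := (mem_centralizer_iff.1 hwC u u.2).symm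
        have hwv : w * v = (v : G) * w := (mem_centralizer_iff.1 hwC v v.2).symm
        have hw2 : w * w = 1 := by rw [← pow_two, ← hwo, pow_orderOf_eq_one]
        set H : Subgroup G := closure {(u : G), (v : G), w}
        have hHc : ∀ x ∈ H, x * x = 1 ∧ Commute x u ∧ Commute x v ∧ Commute x w := by
          intro x hx
          induction hx using Subgroup.closure_induction with
          | mem x hx =>
            rcases hx with rfl | rfl | rfl
            exacts [⟨hu2, Commute.refl _, huvc, hwu.symm⟩, ⟨hv2, huvc.symm, Commute.refl _, hwv.symm⟩,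
              ⟨hw2, hwu, hwv, Commute.refl _⟩]
          | one => exact ⟨one_mul 1, Commute.one_left _, Commute.one_left _, Commute.one_left _⟩
          | mul x y hx hy ihx ihy =>
            have hxy : Commute x y := by
              have : y ∈ centralizer {x} := by
                refine (closure_le _).2 ?_ hy
                rintro _ (rfl | rfl | rfl)
                exacts [mem_centralizer_singleton_iff.2 ihx.2.1.eq.symm,
                  mem_centralizer_singleton_iff.2 ihx.2.2.1.eq.symm,
                  mem_centralizer_singleton_iff.2 ihx.2.2.2.eq.symm]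
              exact (mem_centralizer_singleton_iff.1 this).symm
            exact ⟨by rw [← pow_two, hxy.mul_pow, pow_two, pow_two, ihx.1, ihy.1, one_mul],
              ihx.2.1.mul_left ihy.2.1, ihx.2.2.1.mul_left ihy.2.2.1, ihx.2.2.2.mul_left ihy.2.2.2⟩
          | inv x _ ih =>
            exact ⟨by rw [inv_eq_of_mul_eq_one_right ih.1]; exact ih.1, ih.2.1.inv_left, ih.2.2.1.inv_left,
              ih.2.2.2.inv_left⟩
        have h5 := h2.four_bound fun x hx => (hHc x hx).1
        have hu1 : (u : G) ≠ 1 := fun e0 => hnc i hi (by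
          have := congrArg e (show u = 1 from Subtype.ext e0)
          rwa [MulEquiv.apply_symm_apply, map_one] at this)
        have hv1 : (v : G) ≠ 1 := fun e0 => hnc j hj (by
          have := congrArg e (show v = 1 from Subtype.ext e0)
          rwa [MulEquiv.apply_symm_apply, map_one] at this)
        have huv1 : (u : G) ≠ v := fun e0 => huv (by
          have := congrArg e (show u = v from Subtype.ext e0)
          rwa [MulEquiv.apply_symm_apply, MulEquiv.apply_symm_apply] at this)
        have huw : (u : G) * v ≠ 1 := fun e0 => huv1 (by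
          rw [← inv_eq_of_mul_eq_one_right e0, inv_eq_of_mul_eq_one_right hu2])
        have hsub : ({1, (u : G), (v : G), (u : G) * v, w} : Set G) ⊆ H := by
          have hu' : (u : G) ∈ H := subset_closure (Or.inl rfl)
          have hv' : (v : G) ∈ H := subset_closure (Or.inr (Or.inl rfl))
          rintro x (rfl | rfl | rfl | rfl | rfl)
          exacts [one_mem _, hu', hv', mul_mem hu' hv', subset_closure (Or.inr (Or.inr rfl))]
        have h6 : 5 ≤ Nat.card H := by
          have hn : ({1, (u : G), (v : G), (u : G) * v, w} : Set G).ncard = 5 := by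
            rw [Set.ncard_insert_of_notMem, Set.ncard_insert_of_notMem, Set.ncard_insert_of_notMem,
              Set.ncard_insert_of_notMem, Set.ncard_singleton]
            · exact fun e0 => hwL (Set.mem_singleton_iff.1 e0 ▸ mul_mem u.2 v.2)
            · rintro (e0 | e0)
              · exact hu1 (right_eq_mul.1 e0)
              · exact hwL (Set.mem_singleton_iff.1 e0 ▸ v.2)
            · rintro (e0 | e0 | e0)
              · exact huv1 e0
              · exact hv1 (left_eq_mul.1 e0)
              · exact hwL (Set.mem_singleton_iff.1 e0 ▸ u.2)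
            · rintro (e0 | e0 | e0 | e0)
              · exact hu1 e0.symm
              · exact hv1 e0.symm
              · exact huw e0.symm
              · exact hwL (Set.mem_singleton_iff.1 e0 ▸ one_mem L)
          rw [← hn]
          exact Set.ncard_le_ncard hsub (Set.toFinite _)
        omega
      · rw [hcen]
        have : Nat.card (center L) = 1 := by
          rw [Nat.card_congr (Subgroup.centerCongr e).toEquiv, psl_center_eq_bot (by omega : 4 ≤ Nat.card (ZMod p)),
            card_bot]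
        rw [this]; exact one_dvd _
    · refine ⟨autQ.comp (MulAut.congr e).toMonoidHom, (QuotientGroup.mk' (center (SL2 (ZMod p)))).comp e.toMonoidHom,
        (injective_iff_map_eq_one _).2 fun x hx =>
          (MulAut.congr e).injective ((autQ_eq_one hoddF hx).trans (map_one _).symm),
        (QuotientGroup.mk'_surjective _).comp e.surjective,
        fun l => by
          show autQ (MulAut.congr e (MulAut.conj l)) = _
          rw [show MulAut.congr e (MulAut.conj l) = MulAut.conj (e l) from MulEquiv.ext fun y => by simp,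
            autQ_conj]
          rfl,
        fun z hz hk => ?_, ?_⟩
      · set u := (e.symm i : L)
        set v := (e.symm j : L)
        set w := (e.symm (-1) : L)
        have hne : (-1 : SL2 (ZMod p)) ≠ 1 := fun e1 => h2F (by
          have := congrArg (fun g : SL2 (ZMod p) => g.1 0 0) e1
          simp at this
          linear_combination -this)
        rcases mem_of_quaternion h2 hk (u := (u : G)) (v := (v : G)) (w := (w : G))
          (by rw [← Subgroup.coe_mul, ← map_mul, hi]) (by rw [← Subgroup.coe_mul, ← map_mul, hj])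
          (by rw [← Subgroup.coe_mul, ← map_mul]; simp)
          (fun e0 => hne (e.symm.injective (Subtype.ext (by rw [map_one]; exact e0))))
          (by
            rw [← Subgroup.coe_mul, ← Subgroup.coe_inv, ← Subgroup.coe_mul, ← Subgroup.coe_inv, ← map_inv,
              ← map_inv, ← map_mul, ← map_mul]
            refine congrArg (fun x => ((e.symm x : L) : G)) ?_
            rw [hij, mul_inv_eq_iff_eq_mul]
            apply mul_left_cancel (a := j)
            rw [mul_inv_cancel_left, mul_neg, ← mul_assoc, hj]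
            simp)
          (mem_centralizer_iff.1 hz u u.2).symm (mem_centralizer_iff.1 hz v v.2).symm with e0 | e0
        · rw [e0]; exact one_mem _
        · rw [e0]; exact w.2
      · rw [hcen, Nat.card_congr (Subgroup.centerCongr e).toEquiv, GLOrder.card_center_SL, Fintype.card_fin]
        exact Nat.gcd_dvd_left _ _
  -- the centralizer is the direct product of its odd core and the center of `L`
  set Z := L.subgroupOf C
  haveI : IsCyclic Z := by
    rcases (Nat.dvd_prime Nat.prime_two).1 hLC with e | e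
    · haveI := (Nat.card_eq_one_iff_unique.1 e).1; infer_instance
    · exact isCyclic_of_prime_card e
  set X := (Cfsg.oddCore C).map C.subtype
  haveI : (Cfsg.oddCore C).Characteristic := Cores.pPrimeCore_characteristic 2 C
  haveI hXn : X.Normal := Cores.map_subtype_normal_of_characteristic C _
  have hXC : X ≤ C := map_subtype_le _
  have hXodd : Odd (Nat.card X) := by
    rw [card_map_of_injective C.subtype_injective, ← Nat.coprime_two_right]
    exact Cores.coprime_card_pPrimeCore (G := C) 2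
  have hCdec : ∀ c ∈ C, ∃ x ∈ X, ∃ l ∈ L, c = x * l := by
    have hsy : ∀ R : Sylow 2 C, (R : Subgroup C) ≤ Z := fun R c hc => by
      obtain ⟨k, hk⟩ := IsPGroup.iff_orderOf.1 R.2 ⟨c, hc⟩
      rw [Subgroup.orderOf_mk, ← Subgroup.orderOf_coe] at hk
      exact mem_subgroupOf.2 (htwo c c.2 ⟨k, by rw [← hk, pow_orderOf_eq_one]⟩)
    obtain ⟨R₀⟩ := (inferInstance : Nonempty (Sylow 2 C))
    obtain ⟨R, K, hK, hc⟩ := PairsCyclic.hasNormalPComplement_two R₀
      (isCyclic_of_injective (inclusion (hsy R₀)) (inclusion_injective _)) rfl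
    have hKle : K ≤ Cfsg.oddCore C := by
      refine Cores.le_pPrimeCore hK ?_
      have := R.not_dvd_index
      rw [hc.index_eq_card] at this
      exact ((Nat.Prime.coprime_iff_not_dvd Nat.prime_two).2 this).symm
    intro c hcC
    obtain ⟨⟨⟨k, hk⟩, ⟨r, hr⟩⟩, hkr⟩ := hc.2 ⟨c, hcC⟩
    exact ⟨k, mem_map_of_mem C.subtype (hKle hk), r, mem_subgroupOf.1 (hsy R hr),
      (congrArg Subtype.val hkr).symm⟩
  have hcomm : ∀ x ∈ X, ∀ l ∈ L, Commute x l := fun x hx l hl =>
    (mem_centralizer_iff.1 (hXC hx) l hl).symm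
  have hXL : X ⊓ L = ⊥ := by
    rw [eq_bot_iff]
    rintro x ⟨hx, hxL⟩
    rw [mem_bot, ← orderOf_eq_one_iff]
    refine Nat.eq_one_of_dvd_coprimes (Nat.coprime_two_right.2 hXodd) (Subgroup.orderOf_dvd_natCard X hx)
      ((dvd_trans ?_ hLC))
    have hm : (⟨x, hXC hx⟩ : C) ∈ Z := mem_subgroupOf.2 hxL
    have h1 := Subgroup.orderOf_dvd_natCard Z hm
    rwa [Subgroup.orderOf_mk] at h1
  -- the map into `PGL(2, p)`
  obtain ⟨eA, heA⟩ := exists_aut_equiv hp.out hcardF
  let ψ : G →* PGL2 (ZMod p) := eA.symm.toMonoidHom.comp (A.comp MulAut.conjNormal)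
  have hψL : ∀ l : L, ψ (l : G) = Matrix.ProjectiveSpecialLinearGroup.toPGL (ρ l) := fun l => by
    have h1 : (MulAut.conjNormal (l : G) : MulAut L) = MulAut.conj l := MulEquiv.ext fun y =>
      Subtype.ext (by rw [MulAut.conjNormal_apply]; simp)
    show eA.symm (A (MulAut.conjNormal (l : G))) = _
    rw [h1, hAρ, ← heA, MulEquiv.symm_apply_apply]
  have hψC : ∀ g, ψ g = 1 → g ∈ C := fun g hg => by
    have h1 : (MulAut.conjNormal g : MulAut L) = 1 := hA (eA.symm.injective (by rw [map_one, map_one]; exact hg))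
    refine mem_centralizer_iff.2 fun l hl => ?_
    have h5 := congrArg Subtype.val (DFunLike.congr_fun h1 ⟨l, hl⟩)
    rw [MulAut.conjNormal_apply] at h5
    exact (mul_inv_eq_iff_eq_mul.1 h5).symm
  set φ := (Matrix.ProjectiveSpecialLinearGroup.toPGL : PSL2 (ZMod p) →* PGL2 (ZMod p))
  haveI : φ.range.Normal := PSL2.range_toPGL_normal
  have hidx : φ.range.index = 2 := by
    rw [PSL2.index_range_toPGL, Nat.gcd_eq_left]
    obtain ⟨k, hk⟩ := hoddF
    exact ⟨k, by omega⟩
  set G₀ := φ.range.comap ψ with hG₀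
  have hLG : L ≤ G₀ := fun l hl => ⟨ρ ⟨l, hl⟩, (hψL ⟨l, hl⟩).symm⟩
  have hXG : X ≤ G₀ := fun x hx => by
    have h1 : (MulAut.conjNormal x : MulAut L) = 1 := MulEquiv.ext fun l => Subtype.ext (by
      rw [MulAut.conjNormal_apply, (hcomm x hx l l.2).eq, mul_inv_cancel_right]; rfl)
    show ψ x ∈ φ.range
    rw [show ψ x = 1 by show eA.symm (A (MulAut.conjNormal x)) = 1; rw [h1, map_one, map_one]]
    exact one_mem _
  have hdec : ∀ g ∈ G₀, ∃ x ∈ X, ∃ l ∈ L, g = x * l := by
    rintro g ⟨y, hy⟩
    obtain ⟨l, rfl⟩ := hρs y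
    have h1 : g * (l : G)⁻¹ ∈ C := hψC _ (by rw [map_mul, map_inv, hψL, ← hy, mul_inv_cancel])
    obtain ⟨x, hx, l', hl', e⟩ := hCdec _ h1
    exact ⟨x, hx, l' * l, mul_mem hl' l.2, by rw [← mul_assoc, ← e, inv_mul_cancel_right]⟩
  refine ⟨G₀, inferInstance, ?_, X.subgroupOf G₀, L.subgroupOf G₀, inferInstance, inferInstance, ?_, ?_, ?_,
    ?_, ?_, p, hp, hp5, ?_⟩
  · rw [hG₀, index_comap]
    exact (relIndex_dvd_index_of_normal _ _).trans (dvd_of_eq hidx)
  · rw [eq_bot_iff]
    intro x hx
    rw [mem_bot]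
    exact Subtype.ext (mem_bot.1 (hXL ▸ (⟨mem_subgroupOf.1 hx.1, mem_subgroupOf.1 hx.2⟩ : (x : G) ∈ X ⊓ L)))
  · rw [eq_top_iff]
    rintro ⟨g, hg⟩ -
    obtain ⟨x, hx, l, hl, rfl⟩ := hdec g hg
    exact mul_mem (mem_sup_left (mem_subgroupOf.2 (show ((⟨x, hXG hx⟩ : G₀) : G) ∈ X from hx)))
      (mem_sup_right (mem_subgroupOf.2 (show ((⟨l, hLG hl⟩ : G₀) : G) ∈ L from hl)))
  · rw [Nat.card_congr (subgroupOfEquivOfLe hXG).toEquiv, Nat.card_congr (subgroupOfEquivOfLe hLG).toEquiv]
    refine Nat.coprime_of_dvd fun q hq hqX hqL => ?_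
    haveI := Fact.mk hq
    have hq2 : q ≠ 2 := fun e0 => hXodd.not_two_dvd_nat (e0 ▸ hqX)
    obtain ⟨x, hx⟩ := exists_prime_orderOf_dvd_card' q hqX
    obtain ⟨l, hl⟩ := exists_prime_orderOf_dvd_card' q hqL
    have hm := hodd.no_commuting hq hq2 (x := (x : G)) (y := (l : G)) (by rw [Subgroup.orderOf_coe, hx])
      (by rw [Subgroup.orderOf_coe, hl]) (hcomm x x.2 l l.2)
    have h1 : (l : G) ∈ X ⊓ L := ⟨(zpowers_le.2 x.2) hm, l.2⟩
    rw [hXL, mem_bot] at h1
    rw [← Subgroup.orderOf_coe, h1, orderOf_one] at hl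
    exact hq.ne_one hl.symm
  · rwa [Nat.card_congr (subgroupOfEquivOfLe hXG).toEquiv]
  · haveI : IsZGroup (X.subgroupOf G₀) := isZGroup_of_odd (hodd.subgroup G₀)
      (by rwa [Nat.card_congr (subgroupOfEquivOfLe hXG).toEquiv])
    exact ⟨commutator (X.subgroupOf G₀), inferInstance, IsZGroup.isCyclic_commutator _,
      inferInstanceAs (IsCyclic (Abelianization (X.subgroupOf G₀)))⟩
  · exact hL.imp (Nonempty.map (subgroupOfEquivOfLe hLG).trans) (Nonempty.map (subgroupOfEquivOfLe hLG).trans)

end Cfsg.Agent.SylowCyclicSuzuki
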